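import Cfsg.Agent.H670.Rd.Num

/-!
# S3691, residual case F-D+2: the sporadic groups in P1c (helper670)
-/

set_option autoImplicit false

namespace Cfsg.Agent.H670.Rd

open Cfsg.Agent.H117.Rd Cfsg.Agent.H365.PPart Cfsg.Agent.H365.CubeS

/-- all `(f, m)` with `f m = k` are impossible for `N` -/
def mchk (N k : ℕ) : Bool := (List.range (k + 1)).all fun f =>
  f == 0 || k % f != 0 || Nat.ble (k / f) 4 || (f == 1 && Nat.ble (k / f) 7) || (f == 2 && Nat.ble (k / f) 5) ||
    NN (2 ^ f) (k / f) % N != 0

/-- `k` is the order of 2 modulo `r` -/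
def ochk (r k : ℕ) : Bool :=
  k != 0 && (2 ^ k - 1) % r == 0 && (List.range k).all fun d => d == 0 || (2 ^ d - 1) % r != 0

def ord2 (r : ℕ) : ℕ := ((List.range r).find? fun k => k != 0 && (2 ^ k - 1) % r == 0).getD 0

def schk (N : ℕ) : Bool := lprod (facL N) == N && (facL N).all fun x =>
  isP x.1 && (x.1 == 2 || (ochk x.1 (ord2 x.1) && mchk N (ord2 x.1)))

theorem spor_schk : (OrdDiv.spor.all fun x => !(big2 x.1) || schk x.2) = true := by
  decide +kernel

theorem schk_spec {N f m r : ℕ} (h : schk N = true) (hfr : Fr 2 f m) (hr : r.Prime) (hrN : r ∣ N)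
    (hro : orderOf ((2 : ℕ) : ZMod r) = f * m) (hd : N ∣ NN (2 ^ f) m) : False := by
  have hf := hfr.f1
  have hm := hfr.five
  have hfm : 0 < f * m := by positivity
  rw [schk, Bool.and_eq_true, List.all_eq_true] at h
  obtain ⟨h1, h2⟩ := h
  have h1' : lprod (facL N) = N := by simpa using h1
  have hpr : ∀ x ∈ facL N, (x.1).Prime := by
    intro x hx
    have := h2 x hx
    rw [Bool.and_eq_true] at this
    exact prime_of_isP this.1
  obtain ⟨k, hk⟩ := exists_mem_of_dvd hr hpr (by rw [h1']; exact hrN)
  have h3 := h2 _ hk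
  rw [Bool.and_eq_true, Bool.or_eq_true, Bool.and_eq_true] at h3
  rcases h3.2 with h4 | ⟨h4, h5⟩
  · have h6 : r = 2 := by simpa using h4
    exact not_dvd hr hro hfm (by rw [h6])
  · simp only at h4 h5
    set K := ord2 r with hK
    rw [ochk, Bool.and_eq_true, Bool.and_eq_true, List.all_eq_true] at h4
    obtain ⟨⟨h6, h7⟩, h8⟩ := h4
    have hK0 : K ≠ 0 := by simpa using h6
    have h9 : f * m ∣ K := order_dvd (by norm_num) hro (Nat.dvd_of_mod_eq_zero (by simpa using h7))
    have h10 : f * m = K := by
      rcases Nat.lt_or_ge (f * m) K with hlt | hge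
      · exfalso
        have h11 := h8 (f * m) (List.mem_range.2 hlt)
        rw [Bool.or_eq_true] at h11
        rcases h11 with h12 | h12
        · have : f * m = 0 := by simpa using h12
          omega
        · have h13 : (2 ^ (f * m) - 1) % r ≠ 0 := by simpa using h12
          exact h13 (Nat.mod_eq_zero_of_dvd (dvd_of_order (by norm_num) hro))
      · exact le_antisymm (Nat.le_of_dvd (by omega) h9) hge
    rw [mchk, List.all_eq_true] at h5
    have h11 := h5 f (List.mem_range.2 (by
      have : f ≤ f * m := Nat.le_mul_of_pos_right f (by omega)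
      omega))
    have h12 : K / f = m := by rw [← h10, Nat.mul_div_cancel_left m (by omega)]
    have h13 : K % f = 0 := by rw [← h10, Nat.mul_mod_right]
    rw [h12, h13] at h11
    have h14 := hfr.two rfl
    have h15 := hfr.four rfl
    simp only [Bool.or_eq_true, Bool.and_eq_true, beq_iff_eq, bne_iff_ne, Nat.ble_eq] at h11
    rcases h11 with ((((h16 | h16) | h16) | h16) | h16) | h16
    · omega
    · exact h16 rfl
    · omega
    · have := h14 h16.1
      omega
    · have := h15 h16.1
      omega
    · exact h16 (Nat.mod_eq_zero_of_dvd hd)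

end Cfsg.Agent.H670.Rd
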