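import Cfsg.Agent.H670.Rd.NumTwo
import Cfsg.Agent.H670.Rd.NumSpor

/-!
# S3691, residual case F-D+2, P1c (helper670): the simple sections of `Y`
-/

set_option autoImplicit false

namespace Cfsg.Agent.H670.Rd

open Cfsg Cfsg.Agent.H117.Rd Cfsg.Agent.H365.PPart Cfsg.Agent.H365.CubeS Cfsg.Agent.H365.CubeF

universe u

/-- the groups `PSL_2(q)` -/
theorem num_psl {S : Type u} [Group S] [Finite S] {F : Type} [Field F] [Fintype F] (hq : 4 ≤ Fintype.card F)
    (e : S ≃* Matrix.ProjectiveSpecialLinearGroup (Fin 2) F) {p f m r s : ℕ} (hfr : Fr p f m)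
    (hpt : pt p (Fintype.card F + 1) = Fintype.card F + 1 ∨
      (p = 2 ∧ pt p (Fintype.card F - 1) = Fintype.card F - 1))
    (hr : r.Prime) (hro : orderOf (p : ZMod r) = f * m) (hs : s.Prime) (hso : orderOf (p : ZMod s) = f * (m - 1))
    (hrS : r ∣ Nat.card S) (hsS : s ∣ Nat.card S ∨ (s = m ∧ f = 1)) (hdvd : Nat.card S ∣ NN (p ^ f) m)
    (h : f * (2 * m - 2) ≤ (Nat.card S).factorization p + l1 p f + l2 p m ∨
      (Odd m ∧ (Nat.card S).factorization p ≤ f * (m - 2))) : False := by
  have hm := hfr.five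
  have h1 := psl_eq (F := F) (n := 2) le_rfl
  rw [← Nat.card_congr e.toEquiv] at h1
  set q := Fintype.card F with hqd
  have h2 : Cfsg.Agent.H365.CubeA.sA q (2 - 1) = q * ((q - 1) * (q + 1)) := by
    have : q ^ 2 - 1 = (q - 1) * (q + 1) := by
      have := Nat.sq_sub_sq q 1
      rw [one_pow] at this
      rw [this, mul_comm]
    simp [Cfsg.Agent.H365.CubeA.sA, this]
  rw [h2] at h1
  obtain ⟨l, _, k, hlk⟩ := FiniteField.card' F
  rw [← hqd] at hlk
  by_cases hp2 : p = 2
  · subst hp2
    have hodd : Odd q := by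
      rcases hpt with h3 | ⟨-, h3⟩
      · rw [pt] at h3
        have h4 : (q + 1).factorization 2 ≠ 0 := by
          intro h0
          rw [h0, pow_zero] at h3
          omega
        have h5 : 2 ∣ q + 1 := by rw [← h3]; exact dvd_pow_self 2 h4
        rw [Nat.odd_iff]
        omega
      · rw [pt] at h3
        have h4 : (q - 1).factorization 2 ≠ 0 := by
          intro h0
          rw [h0, pow_zero] at h3
          omega
        have h5 : 2 ∣ q - 1 := by rw [← h3]; exact dvd_pow_self 2 h4
        rw [Nat.odd_iff]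
        omega
    have hg : Nat.gcd 2 (q - 1) = 2 := by
      apply Nat.gcd_eq_left
      obtain ⟨j, hj⟩ := hodd
      exact ⟨j, by omega⟩
    rw [hg] at h1
    have hv := v_le hfr.prime hfr.f1 (by omega) hdvd
    rcases hpt with h3 | ⟨-, h3⟩
    · rw [pt] at h3
      set a := (q + 1).factorization 2 with ha
      have ha3 : 3 ≤ a := by
        by_contra hlt
        have := Nat.pow_le_pow_right (n := 2) (by norm_num) (show a ≤ 2 by omega)
        omega
      obtain ⟨b, hb⟩ : ∃ b, a = b + 1 := ⟨a - 1, by omega⟩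
      have hc : Nat.card S = 2 ^ a * ((2 ^ a - 1) * (2 ^ (a - 1) - 1)) := by
        have e1 : q = 2 ^ a - 1 := by omega
        have e2 : q - 1 = 2 * (2 ^ (a - 1) - 1) := by
          rw [e1, hb, pow_succ]
          simp only [Nat.add_sub_cancel]
          omega
        have e3 : 2 * Nat.card S = 2 * (2 ^ a * ((2 ^ a - 1) * (2 ^ (a - 1) - 1))) := by
          rw [h1, e2, ← h3]
          rw [show q = 2 ^ a - 1 from e1]
          ring
        omega
      have hf : (Nat.card S).factorization 2 = a := by
        refine H277.CS.fact_of Nat.prime_two (d := 1) (X := (2 ^ a - 1) * (2 ^ (a - 1) - 1)) (by norm_num) ?_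
          (by rw [mul_one, hc])
        rw [Nat.prime_two.dvd_mul]
        have h6 : ∀ j : ℕ, j ≠ 0 → ¬ 2 ∣ 2 ^ j - 1 := fun j hj h7 => by
          have h8 : 2 ∣ 2 ^ j := dvd_pow_self 2 hj
          have h9 := Nat.one_le_pow j 2 (by norm_num)
          omega
        rintro (h7 | h7)
        · exact h6 _ (by omega) h7
        · exact h6 _ (by omega) h7
      rw [hf] at h hv
      exact psl_mers hfr ha3 (dvd_of_eq hc) hv hr hro hrS h
    · rw [pt] at h3
      set a := (q - 1).factorization 2 with ha
      have ha2 : 2 ≤ a := by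
        by_contra hlt
        have := Nat.pow_le_pow_right (n := 2) (by norm_num) (show a ≤ 1 by omega)
        omega
      obtain ⟨b, hb⟩ : ∃ b, a = b + 1 := ⟨a - 1, by omega⟩
      have e1 : q = 2 ^ a + 1 := by omega
      have hc : Nat.card S = 2 ^ a * ((2 ^ a + 1) * (2 ^ (a - 1) + 1)) := by
        have e2 : q + 1 = 2 * (2 ^ (a - 1) + 1) := by
          rw [e1, hb, pow_succ]
          simp only [Nat.add_sub_cancel]
          omega
        have e3 : 2 * Nat.card S = 2 * (2 ^ a * ((2 ^ a + 1) * (2 ^ (a - 1) + 1))) := by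
          rw [h1, e2, ← h3]
          rw [show q = 2 ^ a + 1 from e1]
          ring
        omega
      have hf : (Nat.card S).factorization 2 = a := by
        refine H277.CS.fact_of Nat.prime_two (d := 1) (X := (2 ^ a + 1) * (2 ^ (a - 1) + 1)) (by norm_num) ?_
          (by rw [mul_one, hc])
        rw [Nat.prime_two.dvd_mul]
        have h6 : ∀ j : ℕ, j ≠ 0 → ¬ 2 ∣ 2 ^ j + 1 := fun j hj h7 => by
          have h8 : 2 ∣ 2 ^ j := dvd_pow_self 2 hj
          omega
        rintro (h7 | h7)
        · exact h6 _ (by omega) h7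
        · exact h6 _ (by omega) h7
      rw [hf] at h hv
      refine psl_ferm hfr ha2 (dvd_of_eq hc) ?_ hv hr hro hrS hs hso hsS h
      rw [← e1, hlk.2]
      exact ⟨l, k, hlk.1.prime, k.pos, rfl⟩
  · rcases hpt with h3 | ⟨h4, -⟩
    swap
    · exact hp2 h4
    rw [pt] at h3
    set a := (q + 1).factorization p with ha
    have hl2 : l = 2 := by
      have hodd : Odd (q + 1) := by
        rw [← h3]
        exact (hfr.prime.odd_of_ne_two hp2).pow
      have h5 : Even q := by
        rcases Nat.even_or_odd q with h6 | h6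
        · exact h6
        · exact absurd hodd (Nat.not_odd_iff_even.2 h6.add_one)
      rw [hlk.2] at h5
      exact ((Nat.prime_dvd_prime_iff_eq Nat.prime_two hlk.1).1
        (Nat.prime_two.dvd_of_dvd_pow h5.two_dvd)).symm
    rw [hl2] at hlk
    have hb2 : 2 ≤ (k : ℕ) := by
      by_contra hlt
      have := Nat.pow_le_pow_right (n := 2) (by norm_num) (show (k : ℕ) ≤ 1 by omega)
      have := hlk.2
      omega
    refine psl_odd hfr (b := k) (a := a) (N := Nat.card S) (by rw [h3, hlk.2]) hb2 ?_ hr hro hs hso hrS hsS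
    rw [← hlk.2, ← h1]
    exact Dvd.intro_left _ rfl

theorem small {r N : ℕ} (hr : r.Prime) (h : r ∣ N) {a b c : ℕ} (hN : N = 2 ^ a * (3 ^ b * 5 ^ c)) : r ≤ 5 := by
  rw [hN] at h
  rcases hr.dvd_mul.1 h with h1 | h1
  · have := Nat.le_of_dvd (by norm_num) (hr.dvd_of_dvd_pow h1)
    omega
  · rcases hr.dvd_mul.1 h1 with h1 | h1
    · have := Nat.le_of_dvd (by norm_num) (hr.dvd_of_dvd_pow h1)
      omega
    · exact Nat.le_of_dvd (by norm_num) (hr.dvd_of_dvd_pow h1)

theorem small' {r N t : ℕ} (hr : r.Prime) (ht : t.Prime) (h : r ∣ N) {a b c : ℕ} (hN : N = 2 ^ a * (3 ^ b * 5 ^ c) * t) :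
    r ≤ 5 ∨ r = t := by
  rw [hN] at h
  rcases hr.dvd_mul.1 h with h1 | h1
  · exact Or.inl (small hr h1 rfl)
  · exact Or.inr ((Nat.prime_dvd_prime_iff_eq hr ht).1 h1)

/-- **(P1c)** -/
theorem numS (tab : OrdDiv.OrderTable.{u}) {S : Type u} [Group S] [Finite S] [IsSimpleGroup S] (hk : IsKnownSimple' S)
    (hna : ¬ IsMulCommutative S)
    (hlcm : ∀ {p f m r s : ℕ}, p.Prime → 1 ≤ f → 2 ≤ m → IsLieTypeChar p S → r.Prime → orderOf (p : ZMod r) = f * m →
      s.Prime → orderOf (p : ZMod s) = f * (m - 1) → r ∣ Nat.card S → s ∣ Nat.card S →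
      f * (m * (m - 1)) ≤ 2 * (Nat.card S).factorization p)
    (hprm : ∀ {p l r : ℕ}, p.Prime → IsLieTypeChar p S → l.Prime → 5 ≤ l → r.Prime → l ∣ orderOf (p : ZMod r) →
      0 < orderOf (p : ZMod r) → r ∣ Nat.card S →
      l ∣ (Nat.card S).factorization p ∨ l * (l - 1) ≤ 2 * (Nat.card S).factorization p)
    {p f m r s : ℕ} (hfr : Fr p f m)
    (hr : r.Prime) (hro : orderOf (p : ZMod r) = f * m) (hs : s.Prime) (hso : orderOf (p : ZMod s) = f * (m - 1))
    (hrS : r ∣ Nat.card S) (hsS : s ∣ Nat.card S ∨ (s = m ∧ f = 1)) (hdvd : Nat.card S ∣ NN (p ^ f) m)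
    (hcube : Nat.card S < p ^ (3 * (Nat.card S).factorization p))
    (h : f * (2 * m - 2) ≤ (Nat.card S).factorization p + l1 p f + l2 p m ∨
      (Odd m ∧ (Nat.card S).factorization p ≤ f * (m - 2))) : False := by
  have hp := hfr.prime
  have hf := hfr.f1
  have hm := hfr.five
  have hfm : 5 ≤ f * m := hm.trans (Nat.le_mul_of_pos_left m hf)
  have hr6 := r_ge hfr hr hro
  have hv := v_le hp hf (by omega) hdvd
  have hna' : ¬ ∀ a b : S, a * b = b * a := fun hc => hna ⟨⟨hc⟩⟩
  rcases Cfsg.Agent.H365.Cube.known_cube tab hk hna' hp with h1 | h1 | h1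
  · rw [pt, ← pow_mul, mul_comm] at h1
    omega
  · rcases hsS with hsS | ⟨hsm, hf1⟩
    · exact lie_a hf hm (hlcm hp hf (by omega) h1 hr hro hs hso hrS hsS) hv
    · subst hf1
      rw [one_mul] at hro hv h hfm
      rw [one_mul] at h
      have hmp : m.Prime := hsm ▸ hs
      have h2 := hprm hp h1 hmp hm hr (dvd_of_eq hro.symm) (by rw [hro]; omega) hrS
      refine lie_b hp hm (fun h3 => hfr.two h3 rfl) (fun h0 => ?_) h2 hv ?_
      · rw [h0, mul_zero, pow_zero] at hcube
        have := Nat.card_pos (α := S)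
        omega
      · rcases h with h3 | ⟨-, h3⟩
        · exact Or.inl h3
        · exact Or.inr h3
  · rcases h1 with h1 | h1 | h1 | h1 | h1 | h1 | h1
    · obtain ⟨n, hex, ⟨e⟩⟩ := h1
      have hn5 : 5 ≤ n := by
        simp only [altEx, Bool.or_eq_true, Bool.and_eq_true, beq_iff_eq] at hex
        omega
      have h2 := OrdDiv.alt_card hn5 e
      have hle : ∀ t : ℕ, t.Prime → t ∣ Nat.card S → t ≤ n := fun t ht htS => by
        rw [← ht.dvd_factorial, h2]
        exact htS.mul_left 2
      have hrn := hle r hr hrS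
      simp only [altEx, Bool.or_eq_true, Bool.and_eq_true, beq_iff_eq] at hex
      have hn10 : n ≤ 10 := by omega
      have hr10 : r ≤ 10 := hrn.trans hn10
      have hr7 : r = 7 := by
        clear hrn
        interval_cases r
        · exact absurd hr (by norm_num)
        · rfl
        · exact absurd hr (by norm_num)
        · exact absurd hr (by norm_num)
        · exact absurd hr (by norm_num)
      subst hr7
      rcases hex with (⟨h3, h4⟩ | ⟨h3, h4⟩) | ⟨h3, h4⟩
      · omega
      · subst h3
        exact no_three hfr hro (by norm_num) hs hso hsS fun t ht htS => by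
          have := hle t ht htS
          omega
      · subst h3
        have h5 : f * m ∣ 3 := order_dvd (by norm_num) hro (by norm_num)
        have := Nat.le_of_dvd (by norm_num) h5
        omega
    · obtain ⟨F, _, _, hq, hpt, ⟨e⟩⟩ := h1
      exact num_psl hq e hfr hpt hr hro hs hso hrS hsS hdvd h
    · obtain ⟨h7, F, _, _, hF, ⟨e⟩⟩ := h1
      have h2 := psl_eq (F := F) (n := 3) (by norm_num)
      rw [← Nat.card_congr e.toEquiv, hF] at h2
      have h3 : r ∣ 168 := by
        have : r ∣ Cfsg.Agent.H365.CubeA.sA 2 (3 - 1) := by rw [← h2]; exact hrS.mul_left _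
        exact this
      rcases small' (a := 3) (b := 1) (c := 0) hr (by norm_num : Nat.Prime 7) h3 (by norm_num) with h4 | h4
      · omega
      · exact not_dvd hr hro (by omega) (by rw [h4, h7])
    · obtain ⟨h7, F, _, _, hF, ⟨e⟩⟩ := h1
      have h2 := psu_eq (F := F) (n := 3) (q := 3) (by rw [hF]; norm_num) (by norm_num)
      rw [← Nat.card_congr e.toEquiv] at h2
      have h3 : r ∣ 6048 := by
        have : r ∣ Cfsg.Agent.H365.CubeU.sU 3 (3 - 1) := by rw [← h2]; exact hrS.mul_left _
        exact this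
      rcases small' (a := 5) (b := 3) (c := 0) hr (by norm_num : Nat.Prime 7) h3 (by norm_num) with h4 | h4
      · omega
      · subst h4
        subst h7
        have h5 : f * m ∣ 3 := order_dvd (by norm_num) hro (by norm_num)
        have := Nat.le_of_dvd (by norm_num) h5
        omega
    · obtain ⟨h7, F, _, _, hF, he⟩ := h1
      subst h7
      rcases he with he | he
      · obtain ⟨e⟩ := he
        have h2 := psu_eq (F := F) (n := 4) (q := 2) (by rw [hF]; norm_num) (by norm_num)
        rw [← Nat.card_congr e.toEquiv] at h2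
        have h3 : r ∣ 25920 := by
          have : r ∣ Cfsg.Agent.H365.CubeU.sU 2 (4 - 1) := by rw [← h2]; exact hrS.mul_left _
          exact this
        have := small (a := 6) (b := 4) (c := 1) hr h3 (by norm_num)
        omega
      · obtain ⟨e⟩ := he
        have h2 := psu_eq (F := F) (n := 5) (q := 2) (by rw [hF]; norm_num) (by norm_num)
        rw [← Nat.card_congr e.toEquiv] at h2
        have h3 : r ∣ 13685760 := by
          have : r ∣ Cfsg.Agent.H365.CubeU.sU 2 (5 - 1) := by rw [← h2]; exact hrS.mul_left _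
          exact this
        rcases small' (a := 10) (b := 5) (c := 1) hr (by norm_num : Nat.Prime 11) h3 (by norm_num) with h4 | h4
        · omega
        · subst h4
          have h5 : f * m ∣ 5 := order_dvd (by norm_num) hro (by norm_num)
          have h6 := Nat.le_of_dvd (by norm_num) h5
          have hf1 : f = 1 := by nlinarith
          have := hfr.three rfl hf1
          subst hf1
          omega
    · obtain ⟨h7, F, _, _, hF, ⟨e⟩⟩ := h1
      have h2 := psp_eq (F := F) (m := 2) (by norm_num)
      rw [← Nat.card_congr e.toEquiv, hF] at h2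
      have h3 : r ∣ 51840 := by
        have : r ∣ Cfsg.Agent.H365.CubeC.tC 3 2 := by rw [← h2]; exact hrS.mul_left _
        exact this
      have := small (a := 7) (b := 4) (c := 1) hr h3 (by norm_num)
      omega
    · obtain ⟨h7, x, hx, hbig, hreal⟩ := h1
      subst h7
      have h2 := tab.spor S x hx hreal
      have h3 := spor_schk
      rw [List.all_eq_true] at h3
      have h4 := h3 x hx
      rw [hbig, Bool.not_true, Bool.false_or] at h4
      rw [h2] at hrS hdvd
      exact schk_spec h4 hfr hr hrS hro hdvd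

end Cfsg.Agent.H670.Rd
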