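import Cfsg.Agent.H117.Rd.Defs
import Cfsg.Agent.H365.Cube
import Cfsg.Agent.H277.CS.PslSub

/-!
# S3691, residual case F-D+2: arithmetic for P1c (helper670)
-/

set_option autoImplicit false

namespace Cfsg.Agent.H670.Rd

open Cfsg.Agent.H117.Rd

theorem dvd_of_order {p r k : ℕ} (hp : 1 ≤ p) (ho : orderOf (p : ZMod r) = k) : r ∣ p ^ k - 1 := by
  have h1 : ((p : ℕ) : ZMod r) ^ k = 1 := by rw [← ho]; exact pow_orderOf_eq_one _
  rw [← ZMod.natCast_eq_zero_iff]
  have h2 := Nat.cast_sub (R := ZMod r) (Nat.one_le_pow k p hp)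
  rw [h2]
  push_cast
  rw [h1, sub_self]

theorem order_dvd {p r k j : ℕ} (hp : 1 ≤ p) (ho : orderOf (p : ZMod r) = k) (h : r ∣ p ^ j - 1) : k ∣ j := by
  rw [← ho]
  apply orderOf_dvd_of_pow_eq_one
  rw [← ZMod.natCast_eq_zero_iff, Nat.cast_sub (Nat.one_le_pow j p hp), sub_eq_zero] at h
  push_cast at h
  exact h

theorem not_dvd {p r k : ℕ} (hr : r.Prime) (ho : orderOf (p : ZMod r) = k) (hk : 0 < k) : ¬ r ∣ p := by
  intro h
  have := Fact.mk hr
  rw [← ZMod.natCast_eq_zero_iff] at h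
  have h1 : ((p : ℕ) : ZMod r) ^ k = 1 := by rw [← ho]; exact pow_orderOf_eq_one _
  rw [h, zero_pow hk.ne'] at h1
  exact zero_ne_one h1

theorem dvd_sub_one {p r k : ℕ} (hr : r.Prime) (ho : orderOf (p : ZMod r) = k) (hk : 0 < k) : k ∣ r - 1 := by
  have := Fact.mk hr
  rw [← ho]
  apply ZMod.orderOf_dvd_card_sub_one
  intro h
  exact not_dvd hr ho hk ((ZMod.natCast_eq_zero_iff _ _).1 h)

theorem lt_of_order {p r k : ℕ} (hr : r.Prime) (ho : orderOf (p : ZMod r) = k) (hk : 0 < k) : k < r := by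
  have h1 := Nat.le_of_dvd (by have := hr.two_le; omega) (dvd_sub_one hr ho hk)
  have := hr.two_le
  omega

/-- the `p`-part of `NN` -/
theorem fact_NN {p f m : ℕ} (hp : p.Prime) (hf : 1 ≤ f) (hm : 2 ≤ m) :
    (NN (p ^ f) m).factorization p = f * (2 * m - 2) := by
  have hq1 : 1 ≤ p ^ f := Nat.one_le_pow _ _ hp.pos
  have hpq : p ∣ p ^ f := dvd_pow_self p (by omega)
  refine H277.CS.fact_of hp (d := 1) (X := ((p ^ f) ^ m - 1) * ((p ^ f) ^ (m - 1) - 1)) ?_ ?_ ?_
  · rw [Nat.dvd_one]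
    exact hp.ne_one
  · rw [hp.dvd_mul]
    rintro (h | h)
    · exact H277.CS.not_dvd_pow_sub_one hp hq1 hpq (by omega) h
    · exact H277.CS.not_dvd_pow_sub_one hp hq1 hpq (by omega) h
  · rw [NN, mul_one, ← pow_mul]
    ring

theorem NN_ne {p f m : ℕ} (hp : p.Prime) (hf : 1 ≤ f) (hm : 2 ≤ m) : NN (p ^ f) m ≠ 0 := by
  have h1 : 1 < p ^ f := Nat.one_lt_pow (by omega) hp.one_lt
  have h2 : ∀ k : ℕ, k ≠ 0 → (p ^ f) ^ k - 1 ≠ 0 := fun k hk => by
    have := Nat.one_lt_pow hk h1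
    omega
  rw [NN]
  exact mul_ne_zero (mul_ne_zero (by positivity) (h2 _ (by omega))) (h2 _ (by omega))

theorem v_le {p f m N : ℕ} (hp : p.Prime) (hf : 1 ≤ f) (hm : 2 ≤ m) (h : N ∣ NN (p ^ f) m) :
    N.factorization p ≤ f * (2 * m - 2) := by
  rw [← fact_NN hp hf hm]
  have hN : N ≠ 0 := fun h0 => NN_ne hp hf hm (Nat.eq_zero_of_zero_dvd (h0 ▸ h))
  exact (Nat.factorization_le_iff_dvd hN (NN_ne hp hf hm)).2 h p

theorem fact_lt {p f : ℕ} (hf : 1 ≤ f) : f.factorization p < f := by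
  exact Nat.factorization_lt p (by omega)

/-- the Lie type case, `s ∣ |S|` -/
theorem lie_a {f m v : ℕ} (hf : 1 ≤ f) (hm : 5 ≤ m) (h1 : f * (m * (m - 1)) ≤ 2 * v) (h2 : v ≤ f * (2 * m - 2)) :
    False := by
  obtain ⟨k, rfl⟩ : ∃ k, m = k + 5 := ⟨m - 5, by omega⟩
  have h3 : f * ((k + 5) * (k + 5 - 1)) ≤ 2 * (f * (2 * (k + 5) - 2)) := h1.trans (Nat.mul_le_mul_left 2 h2)
  rw [show k + 5 - 1 = k + 4 by omega, show 2 * (k + 5) - 2 = 2 * k + 8 by omega] at h3
  have h4 : f * ((k + 5) * (k + 4)) ≤ f * (2 * (2 * k + 8)) := by linarith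
  have h5 := Nat.le_of_mul_le_mul_left h4 (by omega)
  nlinarith

/-- the Lie type case, `s = m` -/
theorem lie_b {p m v : ℕ} (hp : p.Prime) (hm : 5 ≤ m) (h8 : p = 2 → 8 ≤ m) (hv0 : v ≠ 0) (h1 : m ∣ v ∨ m * (m - 1) ≤ 2 * v)
    (h2 : v ≤ 2 * m - 2) (h : 2 * m - 2 ≤ v + l1 p 1 + l2 p m ∨ v ≤ m - 2) : False := by
  rcases h1 with h1 | h1
  · obtain ⟨c, rfl⟩ := h1
    have hc : c = 1 := by
      rcases Nat.lt_or_ge c 2 with h3 | h3
      · rcases (by omega : c = 0 ∨ c = 1) with rfl | rfl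
        · simp at hv0
        · rfl
      · have := Nat.mul_le_mul_left m h3
        omega
    subst hc
    rw [mul_one] at h
    rcases h with h | h
    · by_cases hp2 : p = 2
      · have := h8 hp2
        simp only [l1, l2, hp2, if_true, Nat.factorization_one] at h
        simp only [Finsupp.coe_zero, Pi.zero_apply] at h
        omega
      · simp only [l1, l2, hp2, if_false, Nat.factorization_one] at h
        simp only [Finsupp.coe_zero, Pi.zero_apply] at h
        have h3 : m - 2 ≤ (m * (m - 1)).factorization p := by omega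
        have h0 : m * (m - 1) ≠ 0 := mul_ne_zero (by omega) (by omega)
        have h4 : p ^ (m * (m - 1)).factorization p ≤ m * (m - 1) := Nat.ordProj_le p h0
        have h5 : 3 ^ (m - 2) ≤ p ^ (m * (m - 1)).factorization p :=
          (Nat.pow_le_pow_left (by have := hp.two_le; omega) _).trans (Nat.pow_le_pow_right hp.pos h3)
        have h6 : ∀ k : ℕ, (k + 5) * (k + 4) < 3 ^ (k + 3) := by
          intro k
          induction k with
          | zero => norm_num
          | succ k ih => rw [show k + 1 + 3 = k + 3 + 1 by ring, pow_succ]; nlinarith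
        have h7 := h6 (m - 5)
        rw [show m - 5 + 5 = m by omega, show m - 5 + 4 = m - 1 by omega, show m - 5 + 3 = m - 2 by omega] at h7
        omega
    · omega
  · obtain ⟨k, rfl⟩ : ∃ k, m = k + 5 := ⟨m - 5, by omega⟩
    rw [show k + 5 - 1 = k + 4 by omega] at h1
    rw [show 2 * (k + 5) - 2 = 2 * k + 8 by omega] at h2
    nlinarith

/-- the small cases: `r` is large -/
theorem r_ge {p f m r : ℕ} (hfr : Fr p f m) (hr : r.Prime) (hro : orderOf (p : ZMod r) = f * m) : 6 ≤ r := by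
  have h5 : 5 ≤ f * m := hfr.five.trans (Nat.le_mul_of_pos_left m hfr.f1)
  have := lt_of_order hr hro (by omega)
  omega

/-- `p = 3` and `f m ∣ 6` -/
theorem no_three {f m r s N : ℕ} (hfr : Fr 3 f m) (hro : orderOf ((3 : ℕ) : ZMod r) = f * m) (h6 : r ∣ 3 ^ 6 - 1)
    (hs : s.Prime) (hso : orderOf ((3 : ℕ) : ZMod s) = f * (m - 1)) (hsS : s ∣ N ∨ (s = m ∧ f = 1))
    (hN : ∀ t : ℕ, t.Prime → t ∣ N → t ≤ 9) : False := by
  have h1 := order_dvd (by norm_num) hro h6
  have h2 := Nat.le_of_dvd (by norm_num) h1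
  have hf := hfr.f1
  have hm := hfr.five
  have hf1 : f = 1 := by nlinarith
  subst hf1
  rw [one_mul] at *
  have hm6 : m = 6 := by
    rcases (by omega : m = 5 ∨ m = 6) with rfl | rfl
    · revert h1; norm_num
    · rfl
  subst hm6
  rcases hsS with h | ⟨rfl, -⟩
  · have h3 := dvd_sub_one hs hso (by norm_num)
    have h4 := hN s hs h
    have h5 := hs.two_le
    have h7 := lt_of_order hs hso (by norm_num)
    simp only [Nat.reduceSub] at h3 h7
    interval_cases s
    · exact absurd hs (by norm_num)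
    · revert h3; norm_num
    · exact absurd hs (by norm_num)
    · exact absurd hs (by norm_num)
  · exact absurd hs (by norm_num)

theorem two_fac {m : ℕ} (hm : 2 ≤ m) {f x y : ℕ} (hf : 1 ≤ f) (h1 : (f * m).factorization 2 = x + 1)
    (h2 : (f * (m - 1)).factorization 2 = y + 1) : x ≠ y := by
  intro hxy
  rw [Nat.factorization_mul (by omega) (by omega)] at h1
  rw [Nat.factorization_mul (by omega) (by omega)] at h2
  simp only [Finsupp.coe_add, Pi.add_apply] at h1 h2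
  rcases Nat.even_or_odd m with h | h
  · have h3 : (m - 1).factorization 2 = 0 := Nat.factorization_eq_zero_of_not_dvd (by
      obtain ⟨k, hk⟩ := h
      omega)
    have h4 : 1 ≤ m.factorization 2 := by
      have := (Nat.prime_two.dvd_iff_one_le_factorization (by omega : m ≠ 0)).1 h.two_dvd
      exact this
    omega
  · have h3 : m.factorization 2 = 0 := Nat.factorization_eq_zero_of_not_dvd h.not_two_dvd_nat
    have h4 : 1 ≤ (m - 1).factorization 2 := by
      refine (Nat.prime_two.dvd_iff_one_le_factorization (by omega : m - 1 ≠ 0)).1 ?_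
      obtain ⟨k, hk⟩ := h
      exact ⟨k, by omega⟩
    omega

/-- the order of `2` modulo a divisor of `2 ^ a + 1` -/
theorem fac_of_plus {r k a : ℕ} (hr : r.Prime) (hr2 : r ≠ 2) (ho : orderOf ((2 : ℕ) : ZMod r) = k) (ha : 1 ≤ a)
    (h : r ∣ 2 ^ a + 1) : ∃ c, Odd c ∧ c * k = 2 * a := by
  have h1 : k ∣ 2 * a := by
    apply order_dvd (by norm_num) ho
    rw [mul_comm, pow_mul]
    have h2 : (2 ^ a) ^ 2 - 1 = (2 ^ a + 1) * (2 ^ a - 1) := by
      have := Nat.sq_sub_sq (2 ^ a) 1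
      rwa [one_pow] at this
    rw [h2]
    exact h.mul_right _
  have h2 : ¬ k ∣ a := by
    rintro ⟨c, rfl⟩
    have h3 := dvd_of_order (by norm_num) ho
    have h4 : r ∣ 2 ^ (k * c) - 1 := h3.trans (by
      rw [pow_mul]
      simpa using Nat.sub_dvd_pow_sub_pow (2 ^ k) 1 c)
    have h5 := Nat.one_le_pow (k * c) 2 (by norm_num)
    have h6 : r ∣ 2 := by
      have := Nat.dvd_sub h h4
      rwa [show 2 ^ (k * c) + 1 - (2 ^ (k * c) - 1) = 2 by omega] at this
    exact hr2 ((Nat.prime_dvd_prime_iff_eq hr Nat.prime_two).1 h6)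
  obtain ⟨c, hc⟩ := h1
  refine ⟨c, ?_, by rw [hc, mul_comm]⟩
  by_contra hodd
  rw [Nat.not_odd_iff_even] at hodd
  obtain ⟨d, rfl⟩ := hodd
  exact h2 ⟨d, by nlinarith⟩

end Cfsg.Agent.H670.Rd
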