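import Cfsg.Agent.H670.Rd.Num

/-!
# S3691, residual case F-D+2: the groups `PSL_2(2 ^ a ± 1)` in P1c (helper670)
-/

set_option autoImplicit false

namespace Cfsg.Agent.H670.Rd

open Cfsg.Agent.H117.Rd

/-- `p` odd -/
theorem psl_odd {p f m r s b a N : ℕ} (hfr : Fr p f m) (h : 2 ^ b + 1 = p ^ a) (hb : 2 ≤ b)
    (hN : N ∣ 2 ^ b * ((2 ^ b - 1) * (2 ^ b + 1)))
    (hr : r.Prime) (hro : orderOf (p : ZMod r) = f * m) (hs : s.Prime) (hso : orderOf (p : ZMod s) = f * (m - 1))
    (hrN : r ∣ N) (hsN : s ∣ N ∨ (s = m ∧ f = 1)) : False := by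
  have hf := hfr.f1
  have hm := hfr.five
  have hp := hfr.prime
  have ha0 : a ≠ 0 := by
    rintro rfl
    rw [pow_zero] at h
    have := Nat.one_le_pow b 2 (by norm_num)
    omega
  -- the primes
  have key : ∀ {t k : ℕ}, t.Prime → orderOf (p : ZMod t) = k → 2 ≤ k → t ∣ N → t ∣ 2 ^ b - 1 := by
    intro t k ht hto hk htN
    rcases (ht.dvd_mul.1 (htN.trans hN)) with h1 | h1
    · exfalso
      have h2 := (Nat.prime_dvd_prime_iff_eq ht Nat.prime_two).1 (ht.dvd_of_dvd_pow h1)
      have := lt_of_order ht hto (by omega)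
      omega
    · rcases ht.dvd_mul.1 h1 with h2 | h2
      · exact h2
      · exfalso
        rw [h] at h2
        exact not_dvd ht hto (by omega) (ht.dvd_of_dvd_pow h2)
  have hfm : 5 ≤ f * m := hm.trans (Nat.le_mul_of_pos_left m hf)
  have hfm1 : 4 ≤ f * (m - 1) := by
    calc 4 ≤ m - 1 := by omega
      _ ≤ f * (m - 1) := Nat.le_mul_of_pos_left _ hf
  have hr1 := key hr hro (by omega) hrN
  rcases Nat.lt_or_ge a 2 with ha | ha
  · obtain rfl : a = 1 := by omega
    rw [pow_one] at h
    have hpr : (2 ^ b + 1).Prime := h ▸ hp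
    obtain ⟨i, rfl⟩ := Nat.pow_of_pow_add_prime (by norm_num) (by omega) hpr
    have key2 : ∀ {t k : ℕ}, orderOf (p : ZMod t) = k → t ∣ 2 ^ 2 ^ i - 1 → k ∣ 2 ^ i := by
      intro t k hto ht
      rw [← hto]
      apply orderOf_dvd_of_pow_eq_one
      rw [← ZMod.natCast_eq_zero_iff, Nat.cast_sub (Nat.one_le_pow _ _ (by norm_num)), sub_eq_zero] at ht
      have h3 : ((p : ℕ) : ZMod t) = 2 := by
        rw [← h]
        push_cast
        push_cast at ht
        rw [ht]
        norm_num
      rw [h3]
      push_cast at ht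
      exact ht
    have h4 := key2 hro hr1
    have h5 : m ∣ 2 ^ i := (Dvd.intro_left f rfl).trans h4
    obtain ⟨j, -, hj⟩ := (Nat.dvd_prime_pow Nat.prime_two).1 h5
    have hj0 : j ≠ 0 := by rintro rfl; rw [pow_zero] at hj; omega
    have h2m : 2 ∣ m := by rw [hj]; exact dvd_pow_self 2 hj0
    rcases hsN with hsN | ⟨hsm, -⟩
    · have h6 := key2 hso (key hs hso (by omega) hsN)
      have h7 : m - 1 ∣ 2 ^ i := (Dvd.intro_left f rfl).trans h6
      obtain ⟨l, -, hl⟩ := (Nat.dvd_prime_pow Nat.prime_two).1 h7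
      have hl0 : l ≠ 0 := by rintro rfl; rw [pow_zero] at hl; omega
      have h8 : 2 ∣ m - 1 := by rw [hl]; exact dvd_pow_self 2 hl0
      omega
    · rw [hsm] at hs
      have := (Nat.prime_dvd_prime_iff_eq Nat.prime_two hs).1 h2m
      omega
  · have h1 := Cfsg.Agent.H365.CubeR.two_pow_add hp.two_le ha h
    have hp3 : p = 3 := by
      have h2 : p ∣ 3 ^ 2 := by
        rw [show (3 : ℕ) ^ 2 = 9 by norm_num, ← h1]
        exact dvd_pow_self p (by omega)
      exact (Nat.prime_dvd_prime_iff_eq hp Nat.prime_three).1 (hp.dvd_of_dvd_pow h2)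
    subst hp3
    have h2 : 2 ^ b = 8 := by omega
    rw [h2] at hr1 hN
    have h7 : r = 7 := (Nat.prime_dvd_prime_iff_eq hr (by norm_num : Nat.Prime 7)).1 hr1
    subst h7
    refine no_three hfr hro (by norm_num) hs hso hsN (fun t ht htN => ?_)
    have h8 := htN.trans hN
    rcases ht.dvd_mul.1 h8 with h9 | h9
    · have := Nat.le_of_dvd (by norm_num) h9
      omega
    · rcases ht.dvd_mul.1 h9 with h9 | h9
      · have := Nat.le_of_dvd (by norm_num) h9
        omega
      · have := Nat.le_of_dvd (by norm_num) h9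
        omega

/-- `q₀ + 1 = 2 ^ a` -/
theorem psl_mers {f m r a N : ℕ} (hfr : Fr 2 f m) (ha : 3 ≤ a) (hN : N ∣ 2 ^ a * ((2 ^ a - 1) * (2 ^ (a - 1) - 1)))
    (hv : a ≤ f * (2 * m - 2)) (hr : r.Prime) (hro : orderOf ((2 : ℕ) : ZMod r) = f * m) (hrN : r ∣ N)
    (h : f * (2 * m - 2) ≤ a + l1 2 f + l2 2 m ∨ (Odd m ∧ a ≤ f * (m - 2))) : False := by
  have hf := hfr.f1
  have hm := hfr.five
  have h8 := hfr.two rfl
  have h6 := hfr.four rfl
  have hfm : 0 < f * m := by positivity
  have hr2 : r ≠ 2 := by
    rintro rfl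
    exact not_dvd hr hro hfm (dvd_refl 2)
  have h1 : f * m ∣ a ∨ f * m ∣ a - 1 := by
    rcases hr.dvd_mul.1 (hrN.trans hN) with h2 | h2
    · exact absurd ((Nat.prime_dvd_prime_iff_eq hr Nat.prime_two).1 (hr.dvd_of_dvd_pow h2)) hr2
    · rcases hr.dvd_mul.1 h2 with h2 | h2
      · exact Or.inl (order_dvd (by norm_num) hro h2)
      · exact Or.inr (order_dvd (by norm_num) hro h2)
  have hlt : f * (2 * m - 2) < 2 * (f * m) := by
    have h3 : f * (2 * m - 2) < f * (2 * m) := Nat.mul_lt_mul_of_pos_left (by omega) (by omega)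
    calc f * (2 * m - 2) < f * (2 * m) := h3
      _ = 2 * (f * m) := by ring
  have h2 : a = f * m ∨ a = f * m + 1 := by
    rcases h1 with ⟨c, hc⟩ | ⟨c, hc⟩
    · left
      have hc1 : c = 1 := by
        by_contra hne
        rcases Nat.eq_zero_or_pos c with h3 | h3
        · rw [h3, mul_zero] at hc
          omega
        · have h4 : f * m * 2 ≤ f * m * c := Nat.mul_le_mul_left _ (by omega)
          omega
      rw [hc, hc1, mul_one]
    · right
      have hc1 : c = 1 := by
        by_contra hne
        rcases Nat.eq_zero_or_pos c with h3 | h3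
        · rw [h3, mul_zero] at hc
          omega
        · have h4 : f * m * 2 ≤ f * m * c := Nat.mul_le_mul_left _ (by omega)
          omega
      rw [hc1, mul_one] at hc
      omega
  have hle : f * m ≤ a ∧ a ≤ f * m + 1 := by omega
  have e1 : f * (2 * m - 2) = 2 * (f * m) - 2 * f := by
    rw [Nat.mul_sub]
    ring_nf
  have e2 : f * (m - 2) = f * m - 2 * f := by
    rw [Nat.mul_sub]
    ring_nf
  rcases h with h | ⟨-, h⟩
  · simp only [l1, l2, if_true] at h
    have h3 := fact_lt (p := 2) hf
    have h5 : 5 * f ≤ f * m := by rw [mul_comm]; exact Nat.mul_le_mul_left f hm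
    have hf2 : f ≤ 2 := by omega
    interval_cases f
    · have := h8 rfl
      rw [Nat.factorization_one] at h
      simp only [Finsupp.coe_zero, Pi.zero_apply] at h
      omega
    · have := h6 rfl
      rw [Nat.prime_two.factorization] at h
      simp only [Finsupp.single_eq_same] at h
      omega
  · omega

theorem fac_odd_mul {c k a : ℕ} (hc : Odd c) (ha : 1 ≤ a) (h : c * k = 2 * a) :
    k.factorization 2 = a.factorization 2 + 1 := by
  have hc0 : c ≠ 0 := by rintro rfl; exact absurd hc (by decide)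
  have hk0 : k ≠ 0 := by rintro rfl; omega
  have h1 := congrArg (fun x => x.factorization 2) h
  rw [Nat.factorization_mul hc0 hk0, Nat.factorization_mul (by norm_num) (by omega), Nat.prime_two.factorization] at h1
  simp only [Finsupp.coe_add, Pi.add_apply, Finsupp.single_eq_same] at h1
  rw [Nat.factorization_eq_zero_of_not_dvd hc.not_two_dvd_nat] at h1
  omega

/-- `q₀ - 1 = 2 ^ a` -/
theorem psl_ferm {f m r s a N : ℕ} (hfr : Fr 2 f m) (ha : 2 ≤ a) (hN : N ∣ 2 ^ a * ((2 ^ a + 1) * (2 ^ (a - 1) + 1)))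
    (hpp : IsPrimePow (2 ^ a + 1))
    (hv : a ≤ f * (2 * m - 2)) (hr : r.Prime) (hro : orderOf ((2 : ℕ) : ZMod r) = f * m) (hrN : r ∣ N)
    (hs : s.Prime) (hso : orderOf ((2 : ℕ) : ZMod s) = f * (m - 1)) (hsN : s ∣ N ∨ (s = m ∧ f = 1))
    (h : f * (2 * m - 2) ≤ a + l1 2 f + l2 2 m ∨ (Odd m ∧ a ≤ f * (m - 2))) : False := by
  have hf := hfr.f1
  have hm := hfr.five
  have hfm : 0 < f * m := by positivity
  have hfm1 : 0 < f * (m - 1) := Nat.mul_pos (by omega) (by omega)
  have key : ∀ {t k : ℕ}, t.Prime → orderOf ((2 : ℕ) : ZMod t) = k → 0 < k → t ∣ N →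
      (∃ c, Odd c ∧ c * k = 2 * a) ∨ (∃ c, Odd c ∧ c * k = 2 * (a - 1)) := by
    intro t k ht hto hk htN
    have ht2 : t ≠ 2 := by
      rintro rfl
      exact not_dvd ht hto hk (dvd_refl 2)
    rcases ht.dvd_mul.1 (htN.trans hN) with h2 | h2
    · exact absurd ((Nat.prime_dvd_prime_iff_eq ht Nat.prime_two).1 (ht.dvd_of_dvd_pow h2)) ht2
    · rcases ht.dvd_mul.1 h2 with h2 | h2
      · exact Or.inl (fac_of_plus ht ht2 hto (by omega) h2)
      · exact Or.inr (fac_of_plus ht ht2 hto (by omega) h2)
  obtain ⟨n, rfl⟩ : ∃ n, m = n + 5 := ⟨m - 5, by omega⟩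
  rw [show n + 5 - 1 = n + 4 by omega] at hso hfm1
  rw [show 2 * (n + 5) - 2 = 2 * n + 8 by omega] at hv h
  rw [show n + 5 - 2 = n + 3 by omega] at h
  rcases hsN with hsN | ⟨hsm, hf1⟩
  swap
  · subst hf1
    rw [hsm] at hs
    have hodd : Odd (n + 5) := hs.odd_of_ne_two (by omega)
    rw [one_mul] at hro hfm
    rcases key hr hro (by omega) hrN with ⟨c, hc, h1⟩ | ⟨c, hc, h1⟩
    · have := hc.mul hodd
      rw [h1] at this
      exact (Nat.not_odd_iff_even.2 (even_two_mul a)) this
    · have := hc.mul hodd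
      rw [h1] at this
      exact (Nat.not_odd_iff_even.2 (even_two_mul (a - 1))) this
  rcases key hr hro hfm hrN with ⟨c, hc, h1⟩ | ⟨c, hc, h1⟩
  · rcases key hs hso hfm1 hsN with ⟨d, hd, h2⟩ | ⟨d, hd, h2⟩
    · have e1 := fac_odd_mul hc (by omega) h1
      have e2 := fac_odd_mul hd (by omega) h2
      exact two_fac (m := n + 5) (by omega) hf e1 e2 rfl
    · -- `c f m = 2 a`, `d f (m - 1) = 2 (a - 1)`
      have hc4 : c < 4 := by
        by_contra hge
        have h3 : 4 * (f * (n + 5)) ≤ c * (f * (n + 5)) := Nat.mul_le_mul_right _ (by omega)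
        nlinarith
      have hd4 : d < 4 := by
        by_contra hge
        have h3 : 4 * (f * (n + 4)) ≤ d * (f * (n + 4)) := Nat.mul_le_mul_right _ (by omega)
        have h4 : 2 * (a - 1) < 2 * (f * (2 * n + 8)) := by omega
        have h5 : 2 * (f * (2 * n + 8)) = 4 * (f * (n + 4)) := by ring
        omega
      have hfn : f * (n + 5) = f * (n + 4) + f := by ring
      have hf4 : 4 * f ≤ f * (n + 4) := by nlinarith
      interval_cases c
      · exact absurd hc (by decide)
      · interval_cases d
        · exact absurd hd (by decide)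
        · have hf2 : f = 2 := by omega
          subst hf2
          have ham : a = n + 5 := by omega
          rcases h with h | ⟨hodd, -⟩
          · simp only [l1, l2, if_true] at h
            rw [Nat.prime_two.factorization] at h
            simp only [Finsupp.single_eq_same] at h
            omega
          · rw [← ham] at hodd
            obtain ⟨l, k, hl, hk, hlk⟩ := hpp
            have hl' := hl.nat_prime
            rcases Nat.lt_or_ge k 2 with hk2 | hk2
            · obtain rfl : k = 1 := by omega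
              rw [pow_one] at hlk
              have h3 : 2 + 1 ∣ 2 ^ a + 1 ^ a := Odd.nat_add_dvd_pow_add_pow 2 1 hodd
              rw [one_pow, ← hlk] at h3
              have h4 := (Nat.prime_dvd_prime_iff_eq (by norm_num : Nat.Prime (2 + 1)) hl').1 h3
              have h5 : 2 ^ 5 ≤ 2 ^ a := Nat.pow_le_pow_right (by norm_num) (by omega)
              omega
            · have h3 := Cfsg.Agent.H365.CubeR.two_pow_add hl'.two_le hk2 hlk.symm
              have h5 : 2 ^ 5 ≤ 2 ^ a := Nat.pow_le_pow_right (by norm_num) (by omega)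
              omega
        · exact absurd hd (by decide)
        · omega
      · exact absurd hc (by decide)
      · interval_cases d
        · exact absurd hd (by decide)
        · omega
        · exact absurd hd (by decide)
        · omega
  · rcases key hs hso hfm1 hsN with ⟨d, hd, h2⟩ | ⟨d, hd, h2⟩
    · -- `c f m = 2 (a - 1)`, `d f (m - 1) = 2 a`
      have hc4 : c < 4 := by
        by_contra hge
        have h3 : 4 * (f * (n + 5)) ≤ c * (f * (n + 5)) := Nat.mul_le_mul_right _ (by omega)
        have h4 : 2 * (a - 1) < 2 * (f * (2 * n + 8)) := by omega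
        have h5 : 2 * (f * (2 * n + 8)) = 4 * (f * (n + 4)) := by ring
        have h6 : f * (n + 4) ≤ f * (n + 5) := Nat.mul_le_mul_left _ (by omega)
        omega
      have hd4 : d ≤ 4 := by
        by_contra hge
        have h3 : 5 * (f * (n + 4)) ≤ d * (f * (n + 4)) := Nat.mul_le_mul_right _ (by omega)
        have h5 : 2 * (f * (2 * n + 8)) = 4 * (f * (n + 4)) := by ring
        omega
      have hfn : f * (n + 5) = f * (n + 4) + f := by ring
      have hf4 : 4 * f ≤ f * (n + 4) := by nlinarith
      interval_cases c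
      · exact absurd hc (by decide)
      · interval_cases d
        · exact absurd hd (by decide)
        · omega
        · exact absurd hd (by decide)
        · omega
        · exact absurd hd (by decide)
      · exact absurd hc (by decide)
      · interval_cases d
        · exact absurd hd (by decide)
        · omega
        · exact absurd hd (by decide)
        · omega
        · exact absurd hd (by decide)
    · have e1 := fac_odd_mul hc (by omega) h1
      have e2 := fac_odd_mul hd (by omega) h2
      exact two_fac (m := n + 5) (by omega) hf e1 e2 rfl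

end Cfsg.Agent.H670.Rd
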